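import Mathlib
import Groth.Prelude
import Groth.Agent.Lib.Helper8.BranchCountGeom
import Groth.Agent.Lib.Helper8.PInsepBranches
import Groth.Agent.Lib.Helper8.BranchSum
import Groth.Agent.Lib.Helper8.BranchSumGeom
import Groth.Agent.Lib.Helper8.Hzl.Noeth
import Groth.Agent.Lib.Helper8.Hzl.Noeth2
import Groth.Agent.Lib.Helper8.Hzl.Reduced
import Groth.Agent.Lib.Helper8.Hzl.IntegralHens
import Groth.Agent.Lib.Helper8.SubfieldInterA
import Groth.Agent.Lib.Helper8.FinInter.Rigid
import Groth.Agent.S9238

/-!
# Minimal primes of a strict henselization extended from an étale local algebra: counting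
-/

set_option autoImplicit false
universe u
open Groth.Agent.Lib.Helper8
open IsLocalRing TensorProduct

namespace Groth.Agent.Lib.Helper8.FinInterCard

/-- All minimal primes of a strict henselization are extended iff there are as many minimal primes
upstairs as downstairs. -/
theorem extended_iff_card_eq (Ah Ash : Type u) [CommRing Ah] [IsLocalRing Ah]
    [hnAh : IsNoetherianRing Ah]
    [CommRing Ash] [IsLocalRing Ash] [Algebra Ah Ash] [IsLocalHom (algebraMap Ah Ash)]
    [hsh : Hensel.IsStrictHenselization Ah Ash] :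
    (∀ Q ∈ minimalPrimes Ash, Q = Ideal.map (algebraMap Ah Ash) (Q.comap (algebraMap Ah Ash))) ↔
      ENat.card (minimalPrimes Ash) = ENat.card (minimalPrimes Ah) := by
  classical
  haveI hnAsh : IsNoetherianRing Ash := (Hzl.strictHenselization_isNoetherianRing_iff Ah Ash).1 hnAh
  haveI hflat : Module.Flat Ah Ash := Hzl.strictHenselization_flat Ah Ash
  haveI hff : Module.FaithfullyFlat Ah Ash := Hzl.strictHenselization_faithfullyFlat Ah Ash
  haveI hfinAh : Finite (minimalPrimes Ah) :=
    (minimalPrimes.finite_of_isNoetherianRing Ah).to_subtype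
  haveI hfinAsh : Finite (minimalPrimes Ash) :=
    (minimalPrimes.finite_of_isNoetherianRing Ash).to_subtype
  let c : minimalPrimes Ash → minimalPrimes Ah := fun Q =>
    ⟨Q.1.comap (algebraMap Ah Ash), BranchSum.comap_mem_minimalPrimes Ah Ash Q.2⟩
  have hcsurj : Function.Surjective c := by
    rintro ⟨P, hP⟩
    obtain ⟨Q, hQ, hQP⟩ := BranchCount.exists_minimalPrime_comap_eq Ah Ash P hP
    exact ⟨⟨Q, hQ⟩, Subtype.ext hQP⟩
  have hstep1 : (∀ Q ∈ minimalPrimes Ash,
      Q = Ideal.map (algebraMap Ah Ash) (Q.comap (algebraMap Ah Ash))) ↔ Function.Injective c := by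
    constructor
    · intro h Q₁ Q₂ h12
      have h12' : Q₁.1.comap (algebraMap Ah Ash) = Q₂.1.comap (algebraMap Ah Ash) :=
        congrArg Subtype.val h12
      apply Subtype.ext
      calc Q₁.1 = Ideal.map (algebraMap Ah Ash) (Q₁.1.comap (algebraMap Ah Ash)) := h _ Q₁.2
        _ = Ideal.map (algebraMap Ah Ash) (Q₂.1.comap (algebraMap Ah Ash)) := by rw [h12']
        _ = Q₂.1 := (h _ Q₂.2).symm
    · intro hinj Q hQ
      obtain ⟨P, hPdef⟩ : ∃ P, P = Q.comap (algebraMap Ah Ash) := ⟨_, rfl⟩
      have hP : P ∈ minimalPrimes Ah := by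
        rw [hPdef]
        exact BranchSum.comap_mem_minimalPrimes Ah Ash hQ
      rw [← hPdef]
      haveI : P.IsPrime := hP.1.1
      have hPne : P ≠ ⊤ := Ideal.IsPrime.ne_top inferInstance
      haveI : Nontrivial (Ah ⧸ P) := Ideal.Quotient.nontrivial_iff.mpr hPne
      haveI : Nontrivial (Ash ⧸ P.map (algebraMap Ah Ash)) :=
        Ideal.Quotient.nontrivial_iff.mpr (BranchSumGeom.map_ne_top Ah Ash P hPne)
      haveI := BranchSumGeom.isLocalHom_quotientMap Ah Ash P
      haveI := BranchSumGeom.isStrictHenselization_quotient Ah Ash P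
      haveI : IsDomain (Ah ⧸ P) := Ideal.Quotient.isDomain P
      have hred : IsReduced (Ash ⧸ P.map (algebraMap Ah Ash)) :=
        (Hzl.strictHenselization_isReduced_iff (Ah ⧸ P) (Ash ⧸ P.map (algebraMap Ah Ash))).1
          inferInstance
      have hrad : (P.map (algebraMap Ah Ash)).IsRadical :=
        (Ideal.isRadical_iff_quotient_reduced _).2 hred
      have hmin : (P.map (algebraMap Ah Ash)).minimalPrimes = {Q} := by
        rw [BranchSum.minimalPrimes_map_eq Ah Ash hP]
        ext Q'
        constructor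
        · rintro ⟨hQ', hQ'P⟩
          have h0 : (⟨Q', hQ'⟩ : minimalPrimes Ash) = ⟨Q, hQ⟩ :=
            hinj (Subtype.ext (hQ'P.trans hPdef))
          exact congrArg Subtype.val h0
        · intro h
          rw [Set.mem_singleton_iff] at h
          rw [h]
          exact ⟨hQ, hPdef.symm⟩
      have h1 := Ideal.sInf_minimalPrimes (I := P.map (algebraMap Ah Ash))
      rw [hmin, sInf_singleton, hrad.radical] at h1
      exact h1
  have hstep2 : Function.Injective c ↔
      ENat.card (minimalPrimes Ash) = ENat.card (minimalPrimes Ah) :=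
    PInsep.injective_iff_card_eq c hcsurj
  exact hstep1.trans hstep2

section Gen

open BranchCountGeom in
theorem comap_ker_eq' (S C Ω : Type u) [CommRing S] [IsLocalRing S] [CommRing C] [Algebra S C]
    [Field Ω] (τ' : S →+* Ω) (hτ' : ∀ s, τ' s = 0 ↔ s ∈ maximalIdeal S)
    (φ : HomOver S C Ω τ') :
    (RingHom.ker φ.1).comap (algebraMap S C) = maximalIdeal S := by
  ext s
  rw [Ideal.mem_comap, RingHom.mem_ker, ← hτ' s]
  have := congr($(φ.2) s)
  rw [RingHom.comp_apply] at this
  rw [this]

open BranchCountGeom in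
theorem isMaximal_ker' (S C Ω : Type u) [CommRing S] [IsLocalRing S] [CommRing C] [Algebra S C]
    [Algebra.IsIntegral S C] [Field Ω] (τ' : S →+* Ω)
    (hτ' : ∀ s, τ' s = 0 ↔ s ∈ maximalIdeal S) (φ : HomOver S C Ω τ') :
    (RingHom.ker φ.1).IsMaximal := by
  haveI : (RingHom.ker φ.1).IsPrime := RingHom.ker_isPrime _
  apply Ideal.isMaximal_of_isIntegral_of_isMaximal_comap (R := S)
  rw [comap_ker_eq' S C Ω τ' hτ' φ]; infer_instance

open BranchCountGeom in
theorem exists_homOver_ker_eq' (S C Ω : Type u) [CommRing S] [IsLocalRing S] [CommRing C]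
    [Algebra S C] [Algebra.IsIntegral S C] [Field Ω] [IsAlgClosed Ω] (τ' : S →+* Ω)
    (hτ' : ∀ s, τ' s = 0 ↔ s ∈ maximalIdeal S) (m : Ideal C) [hm : m.IsMaximal] :
    ∃ φ : HomOver S C Ω τ', RingHom.ker φ.1 = m := by
  letI := Ideal.Quotient.field m
  have hmE : m.comap (algebraMap S C) = maximalIdeal S :=
    eq_maximalIdeal (Ideal.isMaximal_comap_of_isIntegral_of_isMaximal m)
  let i : ResidueField S →+* C ⧸ m :=
    Ideal.Quotient.lift (maximalIdeal S) ((Ideal.Quotient.mk m).comp (algebraMap S C))
      (fun s hs => by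
        rw [RingHom.comp_apply, Ideal.Quotient.eq_zero_iff_mem, ← Ideal.mem_comap, hmE]
        exact hs)
  let τbar : ResidueField S →+* Ω :=
    Ideal.Quotient.lift (maximalIdeal S) τ' (fun s hs => (hτ' s).mpr hs)
  letI := i.toAlgebra
  letI := τbar.toAlgebra
  haveI : Algebra.IsAlgebraic (ResidueField S) (C ⧸ m) :=
    ⟨fun x => by
      obtain ⟨c, rfl⟩ := Ideal.Quotient.mk_surjective x
      exact (IsIntegral.map_of_comp_eq (residue S) (Ideal.Quotient.mk m)
        (RingHom.ext fun s => rfl) (Algebra.IsIntegral.isIntegral (R := S) c)).isAlgebraic⟩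
  let σ : (C ⧸ m) →ₐ[ResidueField S] Ω := IsAlgClosed.lift
  refine ⟨⟨σ.toRingHom.comp (Ideal.Quotient.mk m), ?_⟩, ?_⟩
  · refine RingHom.ext fun s => ?_
    exact σ.commutes (residue S s)
  · ext c
    show c ∈ RingHom.ker (σ.toRingHom.comp (Ideal.Quotient.mk m)) ↔ c ∈ m
    rw [RingHom.mem_ker, RingHom.comp_apply, map_eq_zero_iff _ σ.toRingHom.injective,
      Ideal.Quotient.eq_zero_iff_mem]

end Gen

section

attribute [local instance] Algebra.TensorProduct.rightAlgebra

open BranchCountGeom BranchCount Hzl in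
/-- Part I: the minimal primes of `S = A^sh` are all extended from the étale local `E` iff the
kernel map from `E`-homomorphisms `normRed A ⊗ E → Ω` to maximal ideals is injective. -/
theorem extended_iff_ker_injective (A S E : Type u) [CommRing A] [HenselianLocalRing A]
    [IsDomain A] [IsNoetherianRing A]
    [CommRing S] [IsLocalRing S] [Algebra A S] [IsLocalHom (algebraMap A S)]
    [hS : Hensel.IsStrictHenselization A S]
    [CommRing E] [IsLocalRing E] [Algebra A E] [IsLocalHom (algebraMap A E)]
    (hE : EGA4loc.IsEssentiallyEtale A E) [Algebra E S] [IsScalarTower A E S]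
    (τE : E →+* AlgebraicClosure (ResidueField A))
    (hτE : ∀ e, τE e = 0 ↔ e ∈ maximalIdeal E)
    (hρ : τE.comp (algebraMap A E) = Brnch.toClosure A) :
    Finite {ψ : CAlg2.normRed A →+* AlgebraicClosure (ResidueField A) //
        ψ.comp (algebraMap A (CAlg2.normRed A)) = Brnch.toClosure A} ∧
    ((∀ Q ∈ minimalPrimes S, Q = Ideal.map (algebraMap E S) (Q.comap (algebraMap E S))) ↔
      ∀ φ₁ φ₂ : HomOver E (CAlg2.normRed A ⊗[A] E) (AlgebraicClosure (ResidueField A)) τE,
        RingHom.ker φ₁.1 = RingHom.ker φ₂.1 → φ₁ = φ₂) := by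
  classical
  obtain ⟨hfinE, hetE⟩ := SubfieldInter.finite_etale_of_essEtale A E hE
  haveI := hfinE
  haveI := hetE
  haveI hintAE : Algebra.IsIntegral A E := Algebra.IsIntegral.of_finite A E
  haveI hnE : IsNoetherianRing E := IsNoetherianRing.of_finite A E
  haveI hhE : HenselianLocalRing E := Hzl.henselianLocalRing_of_isIntegral A E
  haveI hflatAE : Module.Flat A E := inferInstance
  haveI hlocES : IsLocalHom (algebraMap E S) := by
    have hP : ((maximalIdeal S).comap (algebraMap E S)).IsPrime := Ideal.comap_isPrime _ _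
    have h1 : ((maximalIdeal S).comap (algebraMap E S)).comap (algebraMap A E) =
        maximalIdeal A := by
      rw [Ideal.comap_comap, ← IsScalarTower.algebraMap_eq]
      exact ((local_hom_TFAE (algebraMap A S)).out 0 4 rfl rfl).mp (inferInstance : IsLocalHom (algebraMap A S))
    have hmax : ((maximalIdeal S).comap (algebraMap E S)).IsMaximal := by
      apply Ideal.isMaximal_of_isIntegral_of_isMaximal_comap (R := A)
      rw [h1]; infer_instance
    exact ((local_hom_TFAE (algebraMap E S)).out 0 4 rfl rfl).mpr (eq_maximalIdeal hmax)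
  haveI : Algebra.FormallyUnramified A E := inferInstance
  haveI : Algebra.EssFiniteType A E := inferInstance
  haveI hES : Hensel.IsStrictHenselization E S :=
    FinInter.isStrictHenselization_of_unramified A S E
  have hstepA := extended_iff_card_eq E S
  have hfinA : (minimalPrimes A).Finite := minimalPrimes.finite_of_isNoetherianRing A
  have h38 := Groth.Agent.S9238.result A S
  have hG : Brnch.numGeomBranches A =
      ENat.card (Σ m' : MaximalSpectrum (CAlg2.normRed A), Brnch.Emb A m') := by
    unfold Brnch.numGeomBranches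
    rw [if_pos hfinA]
  have e5 : (Σ m' : MaximalSpectrum (CAlg2.normRed A), Brnch.Emb A m') ≃
      {ψ : CAlg2.normRed A →+* AlgebraicClosure (ResidueField A) //
        ψ.comp (algebraMap A (CAlg2.normRed A)) = Brnch.toClosure A} :=
    Equiv.ofBijective _ ⟨embToHom_injective A, embToHom_surjective A⟩
  have hS_card : ENat.card (minimalPrimes S) =
      ENat.card {ψ : CAlg2.normRed A →+* AlgebraicClosure (ResidueField A) //
        ψ.comp (algebraMap A (CAlg2.normRed A)) = Brnch.toClosure A} := by
    rw [h38, hG]; exact ENat.card_congr e5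
  haveI hnS : IsNoetherianRing S :=
    (Hzl.strictHenselization_isNoetherianRing_iff A S).1 inferInstance
  haveI hfinS : Finite (minimalPrimes S) :=
    (minimalPrimes.finite_of_isNoetherianRing S).to_subtype
  haveI hΨfin : Finite {ψ : CAlg2.normRed A →+* AlgebraicClosure (ResidueField A) //
        ψ.comp (algebraMap A (CAlg2.normRed A)) = Brnch.toClosure A} :=
    PInsep.finite_of_card_eq (β := minimalPrimes S) hS_card.symm
  have hind : IndEtaleLike A E := fun x =>
    ⟨E, inferInstance, inferInstance, hetE, AlgHom.id A E, x, 1, by simp, by simp⟩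
  have e1 : minimalPrimes (CAlg2.normRed A ⊗[A] E) ≃ minimalPrimes E :=
    Set.BijOn.equiv _ (MinPrimeNorm.bijOn_normRed A E)
  have e2 : minimalPrimes (CAlg2.normRed A ⊗[A] E) ≃
      MaximalSpectrum (CAlg2.normRed A ⊗[A] E) :=
    Equiv.ofBijective _ (minToMax_bijective A E hfinA hind)
  have hE_card : ENat.card (minimalPrimes E) =
      ENat.card (MaximalSpectrum (CAlg2.normRed A ⊗[A] E)) :=
    (ENat.card_congr e1).symm.trans (ENat.card_congr e2)
  have e4 : HomOver E (CAlg2.normRed A ⊗[A] E) (AlgebraicClosure (ResidueField A)) τE ≃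
      {ψ : CAlg2.normRed A →+* AlgebraicClosure (ResidueField A) //
        ψ.comp (algebraMap A (CAlg2.normRed A)) = Brnch.toClosure A} :=
    Equiv.ofBijective _ ⟨restrictLeft_injective A (CAlg2.normRed A) E _ τE _ hρ,
      restrictLeft_surjective A (CAlg2.normRed A) E _ τE _ hρ⟩
  haveI hHfin : Finite (HomOver E (CAlg2.normRed A ⊗[A] E)
      (AlgebraicClosure (ResidueField A)) τE) := Finite.of_equiv _ e4.symm
  haveI hintC : Algebra.IsIntegral E (CAlg2.normRed A ⊗[A] E) :=
    UnibranchHens.isIntegral_right' A (CAlg2.normRed A) E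
  let κ : HomOver E (CAlg2.normRed A ⊗[A] E) (AlgebraicClosure (ResidueField A)) τE →
      MaximalSpectrum (CAlg2.normRed A ⊗[A] E) := fun φ =>
    ⟨RingHom.ker φ.1, isMaximal_ker' E _ _ τE hτE φ⟩
  have hκsurj : Function.Surjective κ := by
    intro m
    haveI hm := m.isMaximal
    obtain ⟨φ, hφ⟩ := exists_homOver_ker_eq' E (CAlg2.normRed A ⊗[A] E)
      (AlgebraicClosure (ResidueField A)) τE hτE m.asIdeal
    exact ⟨φ, MaximalSpectrum.ext hφ⟩
  haveI : Finite (MaximalSpectrum (CAlg2.normRed A ⊗[A] E)) := Finite.of_surjective κ hκsurj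
  have hstepB := PInsep.injective_iff_card_eq κ hκsurj
  refine ⟨hΨfin, ?_⟩
  rw [hstepA, hS_card, hE_card, ← ENat.card_congr e4, ← hstepB]
  constructor
  · intro hinj φ₁ φ₂ h
    exact hinj (MaximalSpectrum.ext h)
  · intro h φ₁ φ₂ h12
    exact h φ₁ φ₂ (congrArg MaximalSpectrum.asIdeal h12)

end

end Groth.Agent.Lib.Helper8.FinInterCard
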