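import Mathlib

/-!
# Field theory for counting embeddings of the relative separable closure
-/

set_option autoImplicit false
universe u
open Polynomial

namespace Groth.Agent.Lib.Helper8.FinInterCard

/-- A separable element of an algebraic closure not in the base field is moved by some
endomorphism over the base field. -/
theorem exists_algHom_ne (l Ω : Type u) [Field l] [Field Ω] [Algebra l Ω] [IsAlgClosed Ω]
    [Algebra.IsAlgebraic l Ω] (α : Ω) (hsep : IsSeparable l α)
    (hα : α ∉ (algebraMap l Ω).range) : ∃ σ : Ω →ₐ[l] Ω, σ α ≠ α := by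
  classical
  by_contra hcon
  push_neg at hcon
  have hroot := Algebra.IsAlgebraic.range_eval_eq_rootSet_minpoly_of_splits (F := l) (K := Ω) Ω
    (fun x => IsAlgClosed.splits _) α
  have hcard := Polynomial.card_rootSet_eq_natDegree (K := Ω) hsep (IsAlgClosed.splits _)
  have h1 : Fintype.card ((minpoly l α).rootSet Ω) = 1 := by
    rw [Fintype.card_eq_one_iff]
    refine ⟨⟨α, by rw [← hroot]; exact ⟨AlgHom.id l Ω, rfl⟩⟩, fun y => ?_⟩
    have hy : (y : Ω) ∈ (Set.range fun ψ : Ω →ₐ[l] Ω => ψ α) :=
      (Set.ext_iff.mp hroot (y : Ω)).mpr y.2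
    obtain ⟨ψ, hψ⟩ := hy
    exact Subtype.ext (hψ.symm.trans (hcon ψ))
  rw [h1] at hcard
  exact hα (minpoly.natDegree_eq_one_iff.mp hcard.symm)

/-- For a separable algebraic extension `K/k` with finitely many embeddings into the algebraically
closed `Ω`, the number of `k`-embeddings of `K` into `l ⊆ Ω` equals the degree iff every
embedding of `K` into `Ω` lands in `l`. -/
theorem card_algHom_eq_finrank_iff (k K l Ω : Type u) [Field k] [Field K] [Field l] [Field Ω]
    [Algebra k K] [Algebra k l] [Algebra k Ω] [IsAlgClosed Ω] [Algebra.IsSeparable k K]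
    (ι : l →ₐ[k] Ω) [Finite (K →ₐ[k] Ω)] :
    Nat.card (K →ₐ[k] l) = Module.finrank k K ↔
      ∀ (j : K →ₐ[k] Ω) (y : K), j y ∈ ι.range := by
  have h1 : Module.finrank k K = Nat.card (K →ₐ[k] Ω) := by
    rw [← Field.finSepDegree_eq_finrank_of_isSeparable k K,
      Field.finSepDegree_eq_of_isAlgClosed k K Ω]
  rw [h1]
  let c : (K →ₐ[k] l) → (K →ₐ[k] Ω) := fun f => ι.comp f
  have hc : Function.Injective c := fun f g h => by
    ext y
    exact ι.toRingHom.injective (DFunLike.congr_fun h y)
  constructor
  · intro hcard j y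
    have hb : Function.Bijective c := hc.bijective_of_nat_card_le hcard.ge
    obtain ⟨f, rfl⟩ := hb.2 j
    exact ⟨f y, rfl⟩
  · intro h
    have hs : Function.Surjective c := by
      intro j
      let e : l ≃ₐ[k] ι.range := AlgEquiv.ofInjectiveField ι
      let j' : K →ₐ[k] ι.range := j.codRestrict ι.range (fun y => h j y)
      refine ⟨(e.symm : ι.range →ₐ[k] l).comp j', ?_⟩
      ext y
      show ι (e.symm (j' y)) = j y
      have h2 : (e (e.symm (j' y)) : Ω) = ι (e.symm (j' y)) := rfl
      rw [← h2, e.apply_symm_apply]; rfl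
    exact Nat.card_congr (Equiv.ofBijective c ⟨hc, hs⟩)

end Groth.Agent.Lib.Helper8.FinInterCard
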