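import Mathlib
import Groth.Prelude
import Groth.Agent.Lib.Helper8.TensorSh.Core
import Groth.Agent.Lib.Helper8.FinInterCard.Field
import Groth.Agent.Lib.Helper8.FinInterCard.Count

/-!
# Minimal primes of the strict henselization extended from an étale local algebra iff the
relative separable closure of the residue field of the normalization splits in its residue field
-/

set_option autoImplicit false
universe u
open Groth.Agent.Lib.Helper8
open IsLocalRing TensorProduct

namespace Groth.Agent.Lib.Helper8.FinInterCard

section PartII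

attribute [local instance] Algebra.TensorProduct.rightAlgebra

variable (A A' R' E : Type u) [CommRing A] [IsLocalRing A] [CommRing A'] [IsLocalRing A']
  [Algebra A A'] [IsLocalHom (algebraMap A A')] [Algebra.IsIntegral A A']
  [CommRing R'] [Algebra A R'] (θ : A' ≃+* R')
  (hθ : ∀ a, θ (algebraMap A A' a) = algebraMap A R' a)
  [CommRing E] [IsLocalRing E] [Algebra A E] [IsLocalHom (algebraMap A E)]
  (Ω : Type u) [Field Ω] [IsAlgClosed Ω] [Algebra (ResidueField A) Ω]

/-- A ring map `A' → Ω` over `A → k → Ω` kills the maximal ideal. -/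
theorem ker_eq_maximalIdeal (ψ' : A' →+* Ω)
    (h : ψ'.comp (algebraMap A A') = (algebraMap (ResidueField A) Ω).comp (residue A)) :
    RingHom.ker ψ' = maximalIdeal A' := by
  haveI : (RingHom.ker ψ').IsPrime := RingHom.ker_isPrime _
  have h1 : (RingHom.ker ψ').comap (algebraMap A A') = maximalIdeal A := by
    ext a
    rw [Ideal.mem_comap, RingHom.mem_ker]
    have h2 : ψ' (algebraMap A A' a) = algebraMap (ResidueField A) Ω (residue A a) :=
      congr($h a)
    rw [h2, map_eq_zero_iff _ (algebraMap (ResidueField A) Ω).injective, residue_eq_zero_iff]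
  have hmax : (RingHom.ker ψ').IsMaximal := by
    apply Ideal.isMaximal_of_isIntegral_of_isMaximal_comap (R := A)
    rw [h1]; infer_instance
  exact eq_maximalIdeal hmax

/-- The induced map on residue fields. -/
noncomputable def barHom (ψ' : A' →+* Ω)
    (h : ψ'.comp (algebraMap A A') = (algebraMap (ResidueField A) Ω).comp (residue A)) :
    ResidueField A' →ₐ[ResidueField A] Ω :=
  { Ideal.Quotient.lift (maximalIdeal A') ψ' (fun x hx => by
      rw [← ker_eq_maximalIdeal A A' Ω ψ' h] at hx; exact hx) with
    commutes' := fun c => by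
      obtain ⟨a, rfl⟩ := residue_surjective c
      exact congr($h a) }

theorem barHom_residue (ψ' : A' →+* Ω)
    (h : ψ'.comp (algebraMap A A') = (algebraMap (ResidueField A) Ω).comp (residue A)) (x : A') :
    barHom A A' Ω ψ' h (residue A' x) = ψ' x := rfl

include hθ in
theorem exists_psi_of_algHom
    (j : separableClosure (ResidueField A) (ResidueField A') →ₐ[ResidueField A] Ω) :
    ∃ ψ : R' →+* Ω, ψ.comp (algebraMap A R') =
        (algebraMap (ResidueField A) Ω).comp (residue A) ∧
      ∀ (x : A') (y : separableClosure (ResidueField A) (ResidueField A')),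
        residue A' x = (y : ResidueField A') → ψ (θ x) = j y := by
  haveI : Algebra.IsIntegral (ResidueField A) (ResidueField A') :=
    TensorSh.isIntegral_residueField A A'
  haveI : Algebra.IsAlgebraic (ResidueField A) (ResidueField A') :=
    Algebra.IsIntegral.isAlgebraic
  letI : Algebra (separableClosure (ResidueField A) (ResidueField A')) Ω :=
    j.toRingHom.toAlgebra
  haveI : IsScalarTower (ResidueField A) (separableClosure (ResidueField A) (ResidueField A')) Ω :=
    IsScalarTower.of_algebraMap_eq (fun c => (j.commutes c).symm)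
  haveI : Algebra.IsAlgebraic (separableClosure (ResidueField A) (ResidueField A'))
      (ResidueField A') := Algebra.IsAlgebraic.tower_top (K := ResidueField A) _
  let J₀ : ResidueField A' →ₐ[separableClosure (ResidueField A) (ResidueField A')] Ω :=
    IsAlgClosed.lift
  let J : ResidueField A' →ₐ[ResidueField A] Ω := J₀.restrictScalars (ResidueField A)
  refine ⟨(J.toRingHom.comp (residue A')).comp (θ.symm : R' →+* A'), ?_, ?_⟩
  · ext a
    show J (residue A' (θ.symm (algebraMap A R' a))) = algebraMap (ResidueField A) Ω (residue A a)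
    rw [← hθ a, θ.symm_apply_apply]
    exact J.commutes (residue A a)
  · intro x y hxy
    show J (residue A' (θ.symm (θ x))) = j y
    rw [θ.symm_apply_apply, hxy]
    exact J₀.commutes y

include hθ in
theorem finite_algHom_of_finite
    (hfin : Finite {ψ : R' →+* Ω // ψ.comp (algebraMap A R') =
        (algebraMap (ResidueField A) Ω).comp (residue A)}) :
    Finite (separableClosure (ResidueField A) (ResidueField A') →ₐ[ResidueField A] Ω) := by
  choose g hg1 hg2 using exists_psi_of_algHom A A' R' θ hθ Ω
  let G : (separableClosure (ResidueField A) (ResidueField A') →ₐ[ResidueField A] Ω) →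
      {ψ : R' →+* Ω // ψ.comp (algebraMap A R') =
        (algebraMap (ResidueField A) Ω).comp (residue A)} := fun j => ⟨g j, hg1 j⟩
  apply Finite.of_injective G
  intro j₁ j₂ h
  ext y
  obtain ⟨x, hx⟩ := residue_surjective (y : ResidueField A')
  have h1 := hg2 j₁ x y hx
  have h2 := hg2 j₂ x y hx
  have h3 : g j₁ = g j₂ := congrArg Subtype.val h
  rw [← h1, ← h2, h3]

include hθ in
theorem ker_injective_iff [Algebra.IsAlgebraic (ResidueField A) Ω]
    (ι : ResidueField E →ₐ[ResidueField A] Ω)
    (τE : E →+* Ω) (hτE' : τE = ι.toRingHom.comp (residue E))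
    (ρ : A →+* Ω) (hρdef : ρ = (algebraMap (ResidueField A) Ω).comp (residue A))
    (hρ : τE.comp (algebraMap A E) = ρ) :
    (∀ φ₁ φ₂ : BranchCountGeom.HomOver E (R' ⊗[A] E) Ω τE,
        RingHom.ker φ₁.1 = RingHom.ker φ₂.1 → φ₁ = φ₂) ↔
      ∀ (j : separableClosure (ResidueField A) (ResidueField A') →ₐ[ResidueField A] Ω)
        (y : separableClosure (ResidueField A) (ResidueField A')), j y ∈ ι.range := by
  classical
  haveI : Algebra.IsIntegral (ResidueField A) (ResidueField A') :=
    TensorSh.isIntegral_residueField A A'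
  haveI : Algebra.IsAlgebraic (ResidueField A) (ResidueField A') :=
    Algebra.IsIntegral.isAlgebraic
  haveI hq : ExpChar (ResidueField A) (ringExpChar (ResidueField A)) := ringExpChar.expChar _
  haveI hqΩ : ExpChar Ω (ringExpChar (ResidueField A)) :=
    expChar_of_injective_ringHom (algebraMap (ResidueField A) Ω).injective _
  haveI hqK : ExpChar (separableClosure (ResidueField A) (ResidueField A'))
      (ringExpChar (ResidueField A)) :=
    expChar_of_injective_ringHom (algebraMap (ResidueField A)
      (separableClosure (ResidueField A) (ResidueField A'))).injective _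
  have hφe : ∀ (φ : BranchCountGeom.HomOver E (R' ⊗[A] E) Ω τE) (e : E),
      φ.1 (algebraMap E (R' ⊗[A] E) e) = τE e := fun φ e => congr($(φ.2) e)
  constructor
  · intro hinj j y
    by_contra hnot
    obtain ⟨ψ, hψρ, hψj⟩ := exists_psi_of_algHom A A' R' θ hθ Ω j
    obtain ⟨φ₁, hφ₁⟩ := BranchCountGeom.restrictLeft_surjective A R' E Ω τE ρ hρ
      ⟨ψ, hρdef ▸ hψρ⟩
    have hφ₁ψ : ∀ r, φ₁.1 (algebraMap R' (R' ⊗[A] E) r) = ψ r := fun r =>
      congr($(congrArg Subtype.val hφ₁) r)
    letI algl : Algebra (ResidueField E) Ω := ι.toRingHom.toAlgebra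
    haveI : IsScalarTower (ResidueField A) (ResidueField E) Ω :=
      IsScalarTower.of_algebraMap_eq (fun c => (ι.commutes c).symm)
    haveI : Algebra.IsAlgebraic (ResidueField E) Ω :=
      Algebra.IsAlgebraic.tower_top (K := ResidueField A) (ResidueField E)
    have hsepk : IsSeparable (ResidueField A) (j y) := by
      have h0 : IsSeparable (ResidueField A) y := Algebra.IsSeparable.isSeparable _ y
      unfold IsSeparable at h0 ⊢
      rwa [minpoly.algHom_eq j j.toRingHom.injective]
    have hsepl : IsSeparable (ResidueField E) (j y) :=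
      IsSeparable.tower_top (L := ResidueField E) hsepk
    obtain ⟨σ, hσ⟩ := exists_algHom_ne (ResidueField E) Ω (j y) hsepl
      (fun ⟨c, hc⟩ => hnot ⟨c, hc⟩)
    have hστ : σ.toRingHom.comp τE = τE := by
      rw [hτE']
      ext e
      exact σ.commutes (residue E e)
    let φ₂ : BranchCountGeom.HomOver E (R' ⊗[A] E) Ω τE :=
      ⟨σ.toRingHom.comp φ₁.1, by rw [RingHom.comp_assoc, φ₁.2, hστ]⟩
    have hk : RingHom.ker φ₁.1 = RingHom.ker φ₂.1 := by
      ext c
      show φ₁.1 c = 0 ↔ σ (φ₁.1 c) = 0
      rw [map_eq_zero_iff σ σ.toRingHom.injective]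
    have h12 := hinj φ₁ φ₂ hk
    obtain ⟨x, hx⟩ := residue_surjective (y : ResidueField A')
    have h3 : φ₁.1 (algebraMap R' (R' ⊗[A] E) (θ x)) = j y := by
      rw [hφ₁ψ]; exact hψj x y hx
    have h4 : φ₂.1 (algebraMap R' (R' ⊗[A] E) (θ x)) = σ (j y) := by
      show σ (φ₁.1 _) = _
      rw [h3]
    rw [← h12, h3] at h4
    exact hσ h4.symm
  · intro h φ₁ φ₂ hker
    apply BranchCountGeom.restrictLeft_injective A R' E Ω τE ρ hρ
    apply Subtype.ext
    show φ₁.1.comp (algebraMap R' (R' ⊗[A] E)) = φ₂.1.comp (algebraMap R' (R' ⊗[A] E))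
    ext x'
    have hψ₁ρ : (φ₁.1.comp (algebraMap R' (R' ⊗[A] E))).comp (algebraMap A R') = ρ :=
      (BranchCountGeom.restrictLeft A R' E Ω τE ρ hρ φ₁).2
    have hψ₁' : ((φ₁.1.comp (algebraMap R' (R' ⊗[A] E))).comp (θ : A' →+* R')).comp
        (algebraMap A A') = (algebraMap (ResidueField A) Ω).comp (residue A) := by
      rw [← hρdef, ← hψ₁ρ]
      ext a
      show φ₁.1 (algebraMap R' (R' ⊗[A] E) (θ (algebraMap A A' a))) = _
      rw [hθ]; rfl
    obtain ⟨N, y, hy⟩ := IsPurelyInseparable.pow_mem (E := ResidueField A')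
      (separableClosure (ResidueField A) (ResidueField A')) (ringExpChar (ResidueField A))
      (residue A' (θ.symm x'))
    obtain ⟨lam, hlam⟩ := h ((barHom A A' Ω _ hψ₁').comp
      (separableClosure (ResidueField A) (ResidueField A')).val) y
    obtain ⟨e, rfl⟩ := residue_surjective lam
    have h1 : τE e = (φ₁.1 (algebraMap R' (R' ⊗[A] E) x')) ^
        (ringExpChar (ResidueField A)) ^ N := by
      have hτe : τE e = ι (residue E e) := by rw [hτE']; rfl
      rw [hτe]
      have h2 : ι (residue E e) = barHom A A' Ω _ hψ₁'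
          (algebraMap (separableClosure (ResidueField A) (ResidueField A'))
            (ResidueField A') y) := hlam
      rw [h2, hy, map_pow, barHom_residue]
      show (φ₁.1 (algebraMap R' (R' ⊗[A] E) (θ (θ.symm x')))) ^ _ = _
      rw [θ.apply_symm_apply]
    have hc1 : algebraMap R' (R' ⊗[A] E) (x' ^ (ringExpChar (ResidueField A)) ^ N) -
        algebraMap E (R' ⊗[A] E) e ∈ RingHom.ker φ₁.1 := by
      rw [RingHom.mem_ker, map_sub, hφe, h1, map_pow, map_pow]
      exact sub_self _
    rw [hker] at hc1
    have hc2 : (φ₂.1 (algebraMap R' (R' ⊗[A] E) x')) ^ (ringExpChar (ResidueField A)) ^ N =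
        τE e := by
      have h5 := RingHom.mem_ker.mp hc1
      rw [map_sub, hφe, map_pow, map_pow] at h5
      exact sub_eq_zero.mp h5
    apply iterateFrobenius_inj Ω (ringExpChar (ResidueField A)) N
    show (φ₁.1 (algebraMap R' (R' ⊗[A] E) x')) ^ _ = (φ₂.1 (algebraMap R' (R' ⊗[A] E) x')) ^ _
    rw [hc2, h1]

end PartII

/-- Noetherian form of S16437. -/
theorem main (A S E : Type u) [CommRing A] [HenselianLocalRing A] [IsDomain A]
    [IsNoetherianRing A]
    [IsLocalRing (integralClosure A (FractionRing A))]
    [IsLocalHom (algebraMap A (integralClosure A (FractionRing A)))]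
    [CommRing S] [IsLocalRing S] [Algebra A S] [IsLocalHom (algebraMap A S)]
    [Hensel.IsStrictHenselization A S]
    [CommRing E] [IsLocalRing E] [Algebra A E] [IsLocalHom (algebraMap A E)]
    (hE : EGA4loc.IsEssentiallyEtale A E) [Algebra E S] [IsScalarTower A E S] :
    (∀ Q ∈ minimalPrimes S, Q = Ideal.map (algebraMap E S) (Q.comap (algebraMap E S))) ↔
      Nat.card (separableClosure (ResidueField A) (ResidueField (integralClosure A (FractionRing A))) →ₐ[ResidueField A]
          ResidueField E) =
        Module.finrank (ResidueField A)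
          (separableClosure (ResidueField A) (ResidueField (integralClosure A (FractionRing A)))) := by
  classical
  obtain ⟨hfinE, -⟩ := SubfieldInter.finite_etale_of_essEtale A E hE
  haveI := hfinE
  haveI hintAE : Algebra.IsIntegral A E := Algebra.IsIntegral.of_finite A E
  haveI : Algebra.IsIntegral (ResidueField A) (ResidueField E) :=
    TensorSh.isIntegral_residueField A E
  haveI : Algebra.IsAlgebraic (ResidueField A) (ResidueField E) :=
    Algebra.IsIntegral.isAlgebraic
  let ι : ResidueField E →ₐ[ResidueField A] AlgebraicClosure (ResidueField A) := IsAlgClosed.lift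
  have hτE : ∀ e, (ι.toRingHom.comp (residue E)) e = 0 ↔ e ∈ maximalIdeal E := fun e => by
    rw [RingHom.comp_apply, map_eq_zero_iff _ ι.toRingHom.injective, residue_eq_zero_iff]
  have hρ : (ι.toRingHom.comp (residue E)).comp (algebraMap A E) = Brnch.toClosure A := by
    ext a
    exact ι.commutes (residue A a)
  obtain ⟨hΨfin, hI⟩ := extended_iff_ker_injective A S E hE _ hτE hρ
  obtain ⟨θ, hθ'⟩ := PInsep.exists_ringEquiv_integralClosure_normRed A
  have hθ : ∀ a, θ (algebraMap A (integralClosure A (FractionRing A)) a) =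
      algebraMap A (CAlg2.normRed A) a := fun a => by
    rw [hθ' a, IsScalarTower.algebraMap_apply A (CAlg2.red A) (CAlg2.normRed A)]
    rfl
  have hII := ker_injective_iff A (integralClosure A (FractionRing A)) (CAlg2.normRed A) E θ hθ
    (AlgebraicClosure (ResidueField A)) ι _ rfl (Brnch.toClosure A) rfl hρ
  haveI hfinHom := finite_algHom_of_finite A (integralClosure A (FractionRing A))
    (CAlg2.normRed A) θ hθ (AlgebraicClosure (ResidueField A)) hΨfin
  rw [hI, hII]
  exact (card_algHom_eq_finrank_iff (ResidueField A) _ (ResidueField E)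
    (AlgebraicClosure (ResidueField A)) ι).symm

end Groth.Agent.Lib.Helper8.FinInterCard
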